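import Groth.Agent.Lead.SiteCoh.CechAcyc
import Groth.Prelude.Def_CohSite
import Mathlib.CategoryTheory.Limits.Preserves.Shapes.Over
import Mathlib.CategoryTheory.Limits.Constructions.Over.Products
import Mathlib.CategoryTheory.Limits.Constructions.Over.Connected

/-!
Čech cohomology of the restriction of an injective presheaf along a functor preserving fibre products.
-/

set_option autoImplicit false

open CategoryTheory Limits Opposite

universe u

namespace Groth.Agent.PushCoh

open Groth.Agent.Lead.SiteCoh.Cech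

variable {C D : Type u} [SmallCategory C] [SmallCategory D] [HasPullbacks C]
  (u : C ⥤ D) [PreservesLimitsOfShape WalkingCospan u]

theorem preservesFiniteLimits_overPost (U : C) : PreservesFiniteLimits (Over.post u (X := U)) := by
  haveI : PreservesLimitsOfShape WalkingCospan (Over.post u (X := U) ⋙ Over.forget (u.obj U)) :=
    inferInstanceAs (PreservesLimitsOfShape WalkingCospan (Over.forget U ⋙ u))
  haveI : PreservesLimitsOfShape WalkingCospan (Over.post u (X := U)) :=
    preservesLimitsOfShape_of_reflects_of_preserves _ (Over.forget (u.obj U))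
  haveI : PreservesLimit (Functor.empty.{0} (Over U)) (Over.post u (X := U)) := by
    refine preservesLimit_of_preserves_limit_cone (Over.mkIdTerminal (X := U)) ?_
    exact (isLimitMapConeEmptyConeEquiv _ _).symm ((Over.mkIdTerminal (X := u.obj U)).ofIso
      (Over.isoMk (f := (Over.post u).obj (Over.mk (𝟙 U))) (g := Over.mk (𝟙 (u.obj U))) (Iso.refl _)
        ((Category.id_comp _).trans (u.map_id U).symm)).symm)
  haveI : PreservesLimitsOfShape (Discrete.{0} PEmpty) (Over.post u (X := U)) :=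
    preservesLimitsOfShape_pempty_of_preservesTerminal _
  exact preservesFiniteLimits_of_preservesTerminal_and_pullbacks _

variable {U : C} {ι : Type u} (Y : ι → Over U)

/-- tuples of maps to the images of the members -/
abbrev UTup (W : D) (n : ℕ) : Type u := Fin (n + 1) → Σ i, W ⟶ u.obj (Y i).left

variable {u Y} {W : D} {n : ℕ}

/-- the maps lie over one map to `u U` -/
def UComp (t : UTup u Y W n) : Prop :=
  ∀ j, (t j).2 ≫ u.map (Y (t j).1).hom = (t 0).2 ≫ u.map (Y (t 0).1).hom

/-- the indices of a tuple -/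
abbrev uidx (t : UTup u Y W n) : Fin (n + 1) → ι := fun j => (t j).1

variable (u Y) in
/-- the image of a fibre product is a fibre product -/
noncomputable def isLimitImg (a : Fin (n + 1) → ι) :
    IsLimit (Fan.mk ((Over.post u).obj (Z Y a)) fun j => (Over.post u).map (Pi.π (fun j => Y (a j)) j)) :=
  haveI := preservesFiniteLimits_overPost u U
  isLimitOfHasProductOfPreservesLimit (Over.post u) (fun j => Y (a j))

/-- the map to the image of the fibre product given by a tuple -/
noncomputable def toU (t : UTup u Y W n) (h : UComp t) : W ⟶ u.obj (Z Y (uidx t)).left :=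
  (Fan.IsLimit.lift (isLimitImg u Y (uidx t)) (A := Over.mk ((t 0).2 ≫ u.map (Y (t 0).1).hom))
    fun j => Over.homMk (t j).2 (h j)).left

theorem toU_π (t : UTup u Y W n) (h : UComp t) (j : Fin (n + 1)) :
    toU t h ≫ u.map (Pi.π (fun j => Y (uidx t j)) j).left = (t j).2 :=
  congrArg CommaMorphism.left (Fan.IsLimit.fac (isLimitImg u Y (uidx t))
    (A := Over.mk ((t 0).2 ≫ u.map (Y (t 0).1).hom)) (fun j => Over.homMk (t j).2 (h j)) j)

theorem hom_ext_U {a : Fin (n + 1) → ι} {k k' : W ⟶ u.obj (Z Y a).left}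
    (h : ∀ j, k ≫ u.map (Pi.π (fun j => Y (a j)) j).left = k' ≫ u.map (Pi.π (fun j => Y (a j)) j).left) : k = k' := by
  have e : k ≫ u.map (Z Y a).hom = k' ≫ u.map (Z Y a).hom := by
    rw [← Over.w (Pi.π (fun j => Y (a j)) 0), u.map_comp, reassoc_of% (h 0)]
  exact congrArg CommaMorphism.left (show (Over.homMk k rfl : Over.mk (k ≫ u.map (Z Y a).hom) ⟶ (Over.post u).obj (Z Y a)) =
    Over.homMk k' e.symm from Fan.IsLimit.hom_ext (isLimitImg u Y a) _ _ fun j => Over.OverMorphism.ext (h j))

omit [PreservesLimitsOfShape WalkingCospan u] in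
theorem ucomp_Z (a : Fin (n + 1) → ι) (k : W ⟶ u.obj (Z Y a).left) :
    UComp (fun j => (⟨a j, k ≫ u.map (Pi.π (fun j => Y (a j)) j).left⟩ : Σ i, W ⟶ u.obj (Y i).left)) := fun j => by
  show (k ≫ _) ≫ _ = (k ≫ _) ≫ _
  rw [Category.assoc, Category.assoc, ← u.map_comp, ← u.map_comp, Over.w, Over.w]

/-- deleting one entry -/
def udel (i : Fin (n + 2)) (t : UTup u Y W (n + 1)) : UTup u Y W n := fun j => t (i.succAbove j)

omit [HasPullbacks C] [PreservesLimitsOfShape WalkingCospan u] in
theorem ucomp_del {t : UTup u Y W (n + 1)} (h : UComp t) (i : Fin (n + 2)) : UComp (udel i t) := fun j =>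
  (h _).trans (h _).symm

variable (P : Dᵒᵖ ⥤ AddCommGrpCat.{u})

/-- the presheaf of families of sections over all objects mapping to an object -/
noncomputable def cone : Dᵒᵖ ⥤ AddCommGrpCat.{u} where
  obj W := AddCommGrpCat.of (∀ V : D, (V ⟶ W.unop) → P.obj (op V))
  map k := AddCommGrpCat.ofHom
    { toFun := fun φ V h => φ V (h ≫ k.unop)
      map_zero' := rfl
      map_add' := fun _ _ => rfl }
  map_id W := by ext φ V h; simp
  map_comp k l := by ext φ V h; simp

/-- the canonical embedding -/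
noncomputable def toConeD : P ⟶ cone P where
  app W := AddCommGrpCat.ofHom
    { toFun := fun p V h => P.map h.op p
      map_zero' := by funext V h; exact map_zero _
      map_add' := fun p q => by funext V h; exact map_add _ p q }
  naturality W W' k := by
    ext p; funext V h
    show P.map h.op (P.map k p) = P.map (h ≫ k.unop).op p
    rw [op_comp, P.map_comp]; rfl

omit [HasPullbacks C] in
theorem mono_toConeD : Mono (toConeD P) := by
  haveI : ∀ W, Mono ((toConeD P).app W) := fun W => by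
    rw [AddCommGrpCat.mono_iff_injective]
    intro p q e
    have := congrFun (congrFun e W.unop) (𝟙 _)
    change P.map (𝟙 W.unop).op p = P.map (𝟙 W.unop).op q at this
    simpa using this
  exact NatTrans.mono_of_mono_app _

variable (u Y) in
/-- the Čech complex of the restricted cone presheaf -/
noncomputable abbrev cxU : CochainComplex AddCommGrpCat.{u} ℕ := CechEdge.cx (u.op ⋙ cone P) Y

/-- evaluation of a cochain on a tuple -/
noncomputable def evU (t : UTup u Y W n) (h : UComp t) (x : (cxU u Y P).X n) : P.obj (op W) :=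
  proj Y (u.op ⋙ cone P) (uidx t) x W (toU t h)

theorem evU_congr {t t' : UTup u Y W n} (h : UComp t) (e : t = t') (x : (cxU u Y P).X n) :
    evU P t h x = evU P t' (e ▸ h) x := by subst e; rfl

theorem proj_apply_U (x : (cxU u Y P).X n) (a : Fin (n + 1) → ι) (k : W ⟶ u.obj (Z Y a).left) :
    proj Y (u.op ⋙ cone P) a x W k = evU P _ (ucomp_Z a k) x := by
  have : toU _ (ucomp_Z a k) = k := hom_ext_U fun j => toU_π _ _ j
  show _ = proj Y (u.op ⋙ cone P) a x W (toU _ (ucomp_Z a k))
  rw [this]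

theorem evU_d (x : (cxU u Y P).X n) (t : UTup u Y W (n + 1)) (h : UComp t) :
    evU P t h ((cxU u Y P).d n (n + 1) x) =
      ∑ i : Fin (n + 2), (-1 : ℤ) ^ (i : ℕ) • evU P (udel i t) (ucomp_del h i) x := by
  let φ : ((cxU u Y P).X n ⟶ (u.op ⋙ cone P).obj (op (Z Y (uidx t)).left)) →+ P.obj (op W) :=
    AddMonoidHom.mk' (fun f => f x W (toU t h)) (fun _ _ => rfl)
  have h1 := d_comp_ev (u.op ⋙ cone P) (fun j => (⟨uidx t j, 𝟙 _ ≫ (Pi.π (fun j => Y (uidx t j)) j).left⟩ :
    Σ i, (Z Y (uidx t)).left ⟶ (Y i).left)) (comp_Z (uidx t) (𝟙 _))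
  rw [ev_univ] at h1
  refine (congrArg φ h1).trans ((map_sum φ _ _).trans (Finset.sum_congr rfl fun i _ => ?_))
  refine (map_zsmul φ _ _).trans (congrArg (((-1 : ℤ) ^ (i : ℕ)) • ·) ?_)
  show proj Y (u.op ⋙ cone P) (uidx (udel i t)) x W (toU t h ≫ u.map _) =
    proj Y (u.op ⋙ cone P) (uidx (udel i t)) x W (toU (udel i t) (ucomp_del h i))
  refine congrArg (proj Y (u.op ⋙ cone P) (uidx (udel i t)) x W) (hom_ext_U fun j => ?_)
  rw [Category.assoc, toU_π, ← u.map_comp]
  refine (congrArg (fun q => toU t h ≫ u.map q) ((toZ_π _ _ j).trans (Category.id_comp _))).trans ?_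
  exact toU_π t h (i.succAbove j)

/-- a chosen lift of a map to `u U` -/
noncomputable def upickG (g : W ⟶ u.obj U)
    (h : Nonempty {e : Σ i, W ⟶ u.obj (Y i).left // e.2 ≫ u.map (Y e.1).hom = g}) : Σ i, W ⟶ u.obj (Y i).left :=
  h.some.1

/-- the chosen lift for a tuple -/
noncomputable def upick (t : UTup u Y W n) : Σ i, W ⟶ u.obj (Y i).left :=
  upickG ((t 0).2 ≫ u.map (Y (t 0).1).hom) ⟨⟨t 0, rfl⟩⟩

omit [HasPullbacks C] [PreservesLimitsOfShape WalkingCospan u] in
theorem upick_eq {m : ℕ} {t : UTup u Y W n} {t' : UTup u Y W m}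
    (e : (t 0).2 ≫ u.map (Y (t 0).1).hom = (t' 0).2 ≫ u.map (Y (t' 0).1).hom) : upick t = upick t' := by
  have : ∀ (g g' : W ⟶ u.obj U) h h', g = g' → upickG (Y := Y) g h = upickG (Y := Y) g' h' := by
    rintro g g' h h' rfl; rfl
  exact this _ _ _ _ e

omit [HasPullbacks C] [PreservesLimitsOfShape WalkingCospan u] in
theorem ucomp_cons {t : UTup u Y W n} (h : UComp t) : UComp (Fin.cons (upick t) t : UTup u Y W (n + 1)) := by
  refine Fin.cases ?_ (fun j => ?_)
  · rfl
  · rw [Fin.cons_succ, Fin.cons_zero]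
    exact (h j).trans (Nonempty.some (⟨⟨t 0, rfl⟩⟩ : Nonempty {e : Σ i, W ⟶ u.obj (Y i).left //
      e.2 ≫ u.map (Y e.1).hom = (t 0).2 ≫ u.map (Y (t 0).1).hom})).2.symm

omit [HasPullbacks C] [PreservesLimitsOfShape WalkingCospan u] in
theorem udel_cons_zero (e : Σ i, W ⟶ u.obj (Y i).left) (t : UTup u Y W n) : udel 0 (Fin.cons e t) = t := by
  funext j; simp [udel]

omit [HasPullbacks C] [PreservesLimitsOfShape WalkingCospan u] in
theorem udel_cons_succ (e : Σ i, W ⟶ u.obj (Y i).left) (t : UTup u Y W (n + 1)) (i : Fin (n + 2)) :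
    udel i.succ (Fin.cons e t) = Fin.cons e (udel i t) := by
  funext j
  cases j using Fin.cases with
  | zero => simp [udel]
  | succ j => simp [udel]

theorem isZero_cechH_cone (p : ℕ) : IsZero (CohCx.cechH (u.op ⋙ cone P) Y (p + 1)) := by
  rw [← HomologicalComplex.exactAt_iff_isZero_homology,
    HomologicalComplex.exactAt_iff' _ p (p + 1) (p + 2) (by simp) (by simp), ShortComplex.ab_exact_iff]
  intro x hx
  refine ⟨mk (u.op ⋙ cone P) fun a W k => evU P _ (ucomp_cons (ucomp_Z a k)) x, ext_proj _ fun a => ?_⟩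
  funext W k
  refine (proj_apply_U P _ a k).trans (Eq.trans ?_ (proj_apply_U P x a k).symm)
  generalize ucomp_Z a k = h
  generalize (fun j => (⟨a j, k ≫ u.map (Pi.π (fun j => Y (a j)) j).left⟩ : Σ i, W ⟶ u.obj (Y i).left)) = t at h ⊢
  have hev : ∀ (t : UTup u Y W p) (h : UComp t),
      evU P t h (mk (u.op ⋙ cone P) fun a W k => evU P _ (ucomp_cons (ucomp_Z a k)) x) = evU P _ (ucomp_cons h) x := by
    intro t h
    show proj Y (u.op ⋙ cone P) (uidx t) (mk _ _) W (toU t h) = _
    rw [proj_mk]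
    have e : (fun j => (⟨uidx t j, toU t h ≫ u.map (Pi.π (fun j => Y (uidx t j)) j).left⟩ : Σ i, W ⟶ u.obj (Y i).left)) = t :=
      funext fun j => by rw [toU_π]
    exact evU_congr P _ (congrArg (fun t => (Fin.cons (upick t) t : UTup u Y W (p + 1))) e) x
  have h1 := evU_d P x (Fin.cons (upick t) t) (ucomp_cons h)
  have h0 : evU P (Fin.cons (upick t) t) (ucomp_cons h) ((cxU u Y P).d (p + 1) (p + 2) x) = 0 := by
    show proj Y _ _ ((cxU u Y P).d (p + 1) (p + 2) x) W _ = 0
    rw [show (cxU u Y P).d (p + 1) (p + 2) x = 0 from hx, map_zero]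
    rfl
  rw [h0, Fin.sum_univ_succ, evU_congr P _ (udel_cons_zero (upick t) t)] at h1
  simp only [Fin.val_zero, pow_zero, one_smul] at h1
  have e0 := eq_neg_of_add_eq_zero_left h1.symm
  refine (evU_d P _ t h).trans ?_
  rw [e0, ← Finset.sum_neg_distrib]
  refine Finset.sum_congr rfl fun i _ => ?_
  rw [hev, evU_congr P _ (udel_cons_succ (upick t) t i)]
  simp only [Fin.val_succ, pow_succ, mul_neg, mul_one, neg_smul, neg_neg]
  refine congrArg (((-1 : ℤ) ^ (i : ℕ)) • ·) ?_
  have e : upick (udel i t) = upick t := upick_eq (h (i.succAbove 0))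
  exact evU_congr P _ (congrArg (fun e => (Fin.cons e (udel i t) : UTup u Y W (p + 1))) e) x

/-- Čech cohomology of the restriction of an injective presheaf vanishes in positive degrees -/
theorem isZero_cechH_comp_injective (u : C ⥤ D) [PreservesLimitsOfShape WalkingCospan u] (Y : ι → Over U)
    (P : Dᵒᵖ ⥤ AddCommGrpCat.{u}) [Injective P] (p : ℕ) : IsZero (CohCx.cechH (u.op ⋙ P) Y (p + 1)) := by
  haveI := mono_toConeD P
  let r : cone P ⟶ P := Injective.factorThru (𝟙 P) (toConeD P)
  let G : (Dᵒᵖ ⥤ AddCommGrpCat.{u}) ⥤ AddCommGrpCat.{u} :=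
    (Functor.whiskeringLeft Cᵒᵖ Dᵒᵖ AddCommGrpCat.{u}).obj u.op ⋙ CechEdge.cxFunctor Y ⋙
      HomologicalComplex.homologyFunctor _ _ (p + 1)
  haveI : Mono (G.map (toConeD P)) := SplitMono.mono ⟨G.map r, by
    rw [← G.map_comp, Injective.comp_factorThru, G.map_id]⟩
  exact @IsZero.of_mono _ _ _ _ _ (G.map (toConeD P)) this (isZero_cechH_cone (u := u) (Y := Y) P p)

end Groth.Agent.PushCoh
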