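import Groth.Agent.PushCoh.Cech
import Mathlib.CategoryTheory.Sites.CoverLifting
import Mathlib.CategoryTheory.Sites.CoverPreserving

/-!
Cohomology of the inverse image along a continuous and cocontinuous functor.
-/

set_option autoImplicit false
set_option backward.isDefEq.respectTransparency false

open CategoryTheory Limits Opposite Abelian

universe u

namespace Groth.Agent.PushCoh

open Groth.Agent.Lead.SiteCoh

variable {C : Type u} [SmallCategory C] {J : GrothendieckTopology C}

theorem freeEquiv_eq (U : C) {G : Sheaf J AddCommGrpCat.{u}} (g : CohCx.freeSheaf J U ⟶ G) :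
    freeEquiv U G g = g.hom.app (op U) (freeEquiv U _ (𝟙 _)) := by
  conv_lhs => rw [← Category.id_comp g, freeEquiv_comp]

/-- sections are `Ext⁰` -/
noncomputable def secEquiv (U : C) (G : Sheaf J AddCommGrpCat.{u}) :
    G.obj.obj (op U) ≃+ Ext (CohCx.freeSheaf J U) G 0 :=
  (AddEquiv.mk' (freeEquiv U G) (fun a b => by
    rw [freeEquiv_eq U (a + b), freeEquiv_eq U a, freeEquiv_eq U b]
    exact congrArg (fun φ => φ (freeEquiv U _ (𝟙 _))) (NatTrans.app_add (α := a.hom) (β := b.hom) (X := op U)))).symm.trans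
    Ext.addEquiv₀.symm

theorem secEquiv_comp (U : C) {G G' : Sheaf J AddCommGrpCat.{u}} (φ : G ⟶ G') (s : G.obj.obj (op U)) :
    secEquiv U G' (φ.hom.app (op U) s) = (secEquiv U G s).comp (Ext.mk₀ φ) (add_zero 0) := by
  obtain ⟨g, rfl⟩ := (freeEquiv U G).surjective s
  rw [← freeEquiv_comp]
  show Ext.mk₀ ((freeEquiv U G').symm (freeEquiv U G' (g ≫ φ))) = (Ext.mk₀ ((freeEquiv U G).symm (freeEquiv U G g))).comp _ _
  rw [Equiv.symm_apply_apply, Equiv.symm_apply_apply, Ext.mk₀_comp_mk₀]

/-- the first connecting map -/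
noncomputable def δ₀ (U : C) {S : ShortComplex (Sheaf J AddCommGrpCat.{u})} (hS : S.ShortExact) :
    S.X₃.obj.obj (op U) →+ CohSite.HU S.X₁ 1 U :=
  (hS.extClass.postcomp (CohCx.freeSheaf J U) (zero_add 1)).comp (secEquiv U S.X₃).toAddMonoidHom

theorem δ₀_surjective (U : C) {S : ShortComplex (Sheaf J AddCommGrpCat.{u})} (hS : S.ShortExact)
    (h : Subsingleton (CohSite.HU S.X₂ 1 U)) : Function.Surjective (δ₀ U hS) := fun x => by
  obtain ⟨x₃, hx⟩ := Ext.covariant_sequence_exact₁ (CohCx.freeSheaf J U) hS x (Subsingleton.elim (α := CohSite.HU S.X₂ 1 U) _ _) (zero_add 1)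
  obtain ⟨s, rfl⟩ := (secEquiv U S.X₃).surjective x₃
  exact ⟨s, hx⟩

theorem ker_δ₀ (U : C) {S : ShortComplex (Sheaf J AddCommGrpCat.{u})} (hS : S.ShortExact) :
    (δ₀ U hS).ker = (S.g.hom.app (op U)).hom.range := by
  ext s
  constructor
  · intro hs
    obtain ⟨x₂, hx⟩ := Ext.covariant_sequence_exact₃ (CohCx.freeSheaf J U) hS (secEquiv U S.X₃ s) (zero_add 1) hs
    obtain ⟨t, rfl⟩ := (secEquiv U S.X₂).surjective x₂
    exact ⟨t, (secEquiv U S.X₃).injective ((secEquiv_comp U S.g t).trans hx)⟩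
  · rintro ⟨t, rfl⟩
    show (secEquiv U S.X₃ (S.g.hom.app (op U) t)).comp hS.extClass (zero_add 1) = 0
    rw [secEquiv_comp, Ext.comp_assoc_of_second_deg_zero, hS.comp_extClass, Ext.comp_zero]

/-- the higher connecting map -/
noncomputable def δSucc (U : C) {S : ShortComplex (Sheaf J AddCommGrpCat.{u})} (hS : S.ShortExact) (p : ℕ) :
    CohSite.HU S.X₃ (p + 1) U →+ CohSite.HU S.X₁ (p + 2) U :=
  hS.extClass.postcomp (CohCx.freeSheaf J U) (rfl : p + 1 + 1 = p + 2)

theorem δSucc_bijective (U : C) {S : ShortComplex (Sheaf J AddCommGrpCat.{u})} (hS : S.ShortExact) (p : ℕ)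
    (h₁ : Subsingleton (CohSite.HU S.X₂ (p + 1) U)) (h₂ : Subsingleton (CohSite.HU S.X₂ (p + 2) U)) :
    Function.Bijective (δSucc U hS p) := by
  refine ⟨(injective_iff_map_eq_zero _).2 fun x hx => ?_, fun x => ?_⟩
  · obtain ⟨x₂, rfl⟩ := Ext.covariant_sequence_exact₃ (CohCx.freeSheaf J U) hS x rfl hx
    rw [show x₂ = 0 from Subsingleton.elim (α := CohSite.HU S.X₂ (p + 1) U) x₂ 0, Ext.zero_comp]
  · obtain ⟨x₃, hx⟩ := Ext.covariant_sequence_exact₁ (CohCx.freeSheaf J U) hS x (Subsingleton.elim (α := CohSite.HU S.X₂ (p + 2) U) _ _) (n₀ := p + 1) rfl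
    exact ⟨x₃, hx⟩

variable {D : Type u} [SmallCategory D] (K : GrothendieckTopology D) (u : C ⥤ D) [u.IsContinuous J K]
  [u.IsCocontinuous J K]

theorem preservesEpimorphisms_push : (CohSite.push K J u).PreservesEpimorphisms :=
  Functor.preservesEpimorphisms_of_adjunction (u.sheafAdjunctionCocontinuous AddCommGrpCat.{u} J K)

theorem shortExact_push {S : ShortComplex (Sheaf K AddCommGrpCat.{u})} (hS : S.ShortExact) :
    (S.map (CohSite.push K J u)).ShortExact := by
  haveI : (CohSite.push K J u).IsRightAdjoint := (u.sheafAdjunctionContinuous AddCommGrpCat.{u} J K).isRightAdjoint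
  haveI : PreservesFiniteLimits (CohSite.push K J u) := inferInstance
  haveI := preservesEpimorphisms_push (J := J) K u
  haveI := hS.epi_g
  haveI := hS.mono_f
  exact ShortComplex.ShortExact.mk' (hS.exact.map_of_mono_of_preservesKernel (CohSite.push K J u) hS.mono_f inferInstance)
    (inferInstanceAs (Mono ((CohSite.push K J u).map S.f))) (inferInstanceAs (Epi ((CohSite.push K J u).map S.g)))

/-- the inverse image of an injective sheaf is acyclic on objects -/
theorem subsingleton_HU_push_injective [HasPullbacks C] [PreservesLimitsOfShape WalkingCospan u]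
    (I : Sheaf K AddCommGrpCat.{u}) [Injective I] (p : ℕ) (U : C) :
    Subsingleton (CohSite.HU ((CohSite.push K J u).obj I) (p + 1) U) := by
  refine Cech.subsingleton_HU_of_cechAcyclic Set.univ
    (fun U ι Y => Sieve.ofArrows (fun i => (Y i).left) (fun i => (Y i).hom) ∈ J U)
    (fun U ι Y hY => ⟨trivial, hY, fun _ _ => trivial⟩) (fun U _ T hT => ?_) p _ (fun U ι Y _ q => ?_) U trivial
  · refine ⟨Σ V : C, {f : V ⟶ U // T f}, fun x => Over.mk x.2.1, ?_, fun x => x.2.2⟩
    refine J.superset_covering ?_ hT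
    intro V f hf
    exact Sieve.ofArrows_mk _ _ (⟨V, f, hf⟩ : Σ V : C, {f : V ⟶ U // T f})
  · haveI : Injective I.obj := Injective.injective_of_adjoint (sheafificationAdjunction K AddCommGrpCat.{u}) I
    exact isZero_cechH_comp_injective u Y I.obj q

theorem nonempty_HU_equiv [HasPullbacks C] [PreservesLimitsOfShape WalkingCospan u]
    (p : ℕ) : ∀ (F : Sheaf K AddCommGrpCat.{u}) (U : C),
      Nonempty (CohSite.HU ((CohSite.push K J u).obj F) p U ≃+ CohSite.HU F p (u.obj U)) := by
  induction p with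
  | zero => exact fun F U => ⟨(secEquiv U ((CohSite.push K J u).obj F)).symm.trans (secEquiv (u.obj U) F)⟩
  | succ p ih =>
    intro F U
    let S := Cech.injS F
    have hS := Cech.shortExact_injS F
    haveI : Injective S.X₂ := (inferInstance : Injective (Injective.under F))
    have hS' := shortExact_push (J := J) K u hS
    have hI := fun q => subsingleton_HU_push_injective (J := J) K u S.X₂ q U
    have hI' := fun q => subsingleton_HU_of_injective S.X₂ q (u.obj U)
    rcases p with _ | p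
    · refine ⟨AddEquiv.trans (AddEquiv.trans (QuotientAddGroup.quotientKerEquivOfSurjective (δ₀ U hS') (δ₀_surjective U hS' (hI 0))).symm
        (QuotientAddGroup.quotientAddEquivOfEq ?_))
        (QuotientAddGroup.quotientKerEquivOfSurjective (δ₀ (u.obj U) hS) (δ₀_surjective (u.obj U) hS (hI' 0)))⟩
      rw [ker_δ₀, ker_δ₀]
      rfl
    · obtain ⟨e⟩ := ih S.X₃ U
      exact ⟨((AddEquiv.ofBijective _ (δSucc_bijective U hS' p (hI p) (hI (p + 1)))).symm.trans e).trans
        (AddEquiv.ofBijective _ (δSucc_bijective (u.obj U) hS p (hI' p) (hI' (p + 1))))⟩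

end Groth.Agent.PushCoh
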